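import Cfsg.Agent.Helper18.E8Odd.Lin
import Cfsg.Agent.Helper36.E8Odd.NApi

/-!
Helper18 (S4281): definitions for PART I (the involutions of `N` are conjugate into `H`) in `E₈(F)`, `|F|` odd, on top of
helper36's interface `Cfsg.Agent.Helper36.E8Odd.{Api, NApi}` and the linear model `Cfsg.Agent.Helper18.E8Odd.Lin`.
-/

set_option autoImplicit false
set_option maxRecDepth 100000

namespace Cfsg.Agent.Helper18.E8Odd

open Cfsg Cfsg.Lie Cfsg.Agent.Helper18 Cfsg.Agent.Helper36.E8Odd

/-- the number of roots `x` with `w x = -x` -/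
def negCount (w : List ℕ) : ℕ := ((List.range 240).filter fun x => decide (aW w x = 239 - x)).length

/-- the fundamental root with number `i` -/
abbrev sr (i : ℕ) : ℕ := chevE8.simple i

/-- the fundamental roots `i`, `j` are joined in the diagram -/
def Adj (i j : ℕ) : Prop := i < 8 ∧ j < 8 ∧ chevE8.cartan i (chevE8.simple j) = -1

instance (i j : ℕ) : Decidable (Adj i j) := inferInstanceAs (Decidable (_ ∧ _ ∧ _))

section
variable {F : Type*} [Field F]

/-- `m` maps `X_r(t)` to `X_{-r}(e² t)` -/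
def SqAt (m : GL chevE8.Idx F) (r : ℕ) : Prop :=
  ∃ e : F, e ≠ 0 ∧ ∀ t : F, m * X r t * m⁻¹ = X (239 - r) (e * e * t)

end

end Cfsg.Agent.Helper18.E8Odd
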