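import Cfsg.Agent.Helper18.LongWord
import Cfsg.Agent.Helper18.CoxFaithful

/-!
Helper18 (S4281): the linear model of the action of words in the fundamental reflections of `W(E₈)` on the
240 root indices.  `cf x` is the coefficient vector of the root `x` on the fundamental roots, `Lw w` the linear map of
the word `w`, `B` the invariant bilinear form (the Cartan matrix of `E₈` is symmetric).
-/

set_option autoImplicit false
set_option maxRecDepth 100000

namespace Cfsg.Agent.Helper18.E8Odd

open Cfsg Cfsg.Lie Cfsg.Agent.Helper18 Cfsg.Agent.Helper19.Cox

/-- the action of a word on a root index (`Helper36.E8Odd.aW` is an abbreviation of the same term) -/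
local notation "aW" => actW reflTabsE8 8 240

abbrev V := Fin 8 → ℤ

/-- packed coefficients: byte `x` of the `k`-th entry is `6 +` the coefficient of the root `x` on the `k`-th fundamental root -/
def cfTab : List ℕ := [2979486907632600514681407488498351927979460899743323896781728991177916518954104079167278367941488984164202781303713335910577454773616235804952029210726958560279959904847026080110351889591364530840482859277103506902800789192231498717223517739157426854657460096804910933143321740937339513609064403431393483439919871282040447688403576027947917109806999457784474507482515395800849971521173090437950889282916542674336079745177906055225769019287535961159666144064129124017611945281099468671632460378800056043262028434349226644233672507875355632490636457378483827768346667143206798340, 3351922771086675573847997539524833333921957296319061529006554541568433966795772776998629667201959626134862789729641592291297440892018194141052085006440069887279100077638077342155569734109010577227088385392901678448378874179486027707864214228094725666734295578897463841871332234967840730941021695558769765707087160099026443861872675736284620302217193903533255049837758350299069053779593673975341960662155025792753099052898008176054494262742554364817448168985544333684739090920504490774515664973218354290481922123209368581782506951196219705655133664073153520257574617010380407555,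 3724358634540749325342168887877270870668307372644951325143389877976304371611379670522200472214027369422022008755457867019770661404583624896069265834561319213268089378013692869281307527761709892860376636801711103302837234747027797316965486565285558506890773278975752227377382135132746981161563508013702937514954428136017737975482329262891266306563714943077087258869508444851986376975617469821653591620041846621818357458758255109177736562486231370182562038203712618624293902636561458209317414367243396949015752109823502120981891317011470914981379346872663770771304379103339217410, 4469230361448562043577470659362211894012597137935446478815234633003547953266611207946958957797783006332363684440756311590079740353512772018248612131090086717473951893639856726955270664426970968005332160383005284023351635900351087091411162331847700196552044472071170180739091590914373951959944797533436205702947310644410035084226043028700347745322830234892730620384086683451765674344674889260841868406513372975382800975568565070279831849240816131012807947560105201968474271493116687090174589021002298042259212008529251502989504963500181281102906648933739634166008949272257495040, 4096794497908111225879137990585988163301763537708092599108064134505433385287207300287633716735130289326396548307185684656674478265263144697725154197694533298937627464036634742623127216421790890946990249270975783393926448512410926373024410294482892324998876413589043784824082945696051805425062994266394994301517816613863405592289629666535501227752099255423897662435404344928480701701800036158684922610052515015160328158733301517408592618869042344876162711446141217701276483178098419269015009338823722650424359196985385714464744221676799431563631842238236904017682473314682994945,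 3724358612341843300555727864374353614843269078999888322151709771425002283650678058625061086167797213662362212530375043538907916303367992378002707934144480636478332590897197841100902769917444362077623775578460233234579559023372455376845175422394978012070827893542377457044223945951658209062317953614194973565936125381034229753949432532266330392439236390749986414348494729646104010764930017675229384077448718082073606225277135869723701117405369486779224627352090519318987412281692097365679737581376964631217623835062934493803796281434244818612382512430529642123569334224330818050, 3351917088166395823232520692989538069390933427215996383599692427064065861658643436980248100508025147299327204330241167802032127902137444784237992398308769946767953012933569928560025296652115046983282858711720104323014882485798633352919676827745873718550315977743125721520709072391001272696300557060995219897229907378230128223182067793187611192162391043942473199977066896059873287774939830872476153646272688121769204198364768624093315601230058129406556490413172298862160306981117339873455207232458625782230478096364230715459422385909374022919127498333208635412871441787597882115, 2978032080040983033961348207498090372993406014376461568879027910912180952783555375580725461996596634196296409059325243426259305757284485256000184844448422952253478814134399002978842161684608436216053586561224971463524196052594515484001423450404554296814621117961965532646708869437486975265018286701357423404424956933485614711664512965509526829990277138565171687136563320017623276754726324607012629274441566332772257440063157084698181169530899915765080319879337610773908029178345704481464019192001312208745754981763436765454848098134428674239594835953048078150159817290071475460]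

/-- the coefficient vector of the root with index `x` -/
def cf (x : ℕ) : V := fun k => (byteAt (cfTab.getD k.val 0) x : ℤ) - 6

/-- the Cartan matrix of `E₈` (Bourbaki numbering, shifted by one) -/
def CmTab : List (List ℤ) :=
  [[2, 0, -1, 0, 0, 0, 0, 0], [0, 2, 0, -1, 0, 0, 0, 0], [-1, 0, 2, -1, 0, 0, 0, 0], [0, -1, -1, 2, -1, 0, 0, 0],
   [0, 0, 0, -1, 2, -1, 0, 0], [0, 0, 0, 0, -1, 2, -1, 0], [0, 0, 0, 0, 0, -1, 2, -1], [0, 0, 0, 0, 0, 0, -1, 2]]

/-- the Cartan integers of the fundamental roots -/
def Cm (i k : Fin 8) : ℤ := (CmTab.getD i.val []).getD k.val 0

theorem Cm_eq : ∀ i k : Fin 8, Cm i k = chevE8.cartan i.val (chevE8.simple k.val) := by decide +kernel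

theorem cf_coroot : ∀ x < 240, ∀ k : Fin 8, (chevE8.coroot.getD x #[]).getD k.val 0 = cf x k := by decide +kernel

/-- the Cartan matrix of the fundamental roots -/
def Cmat : Matrix (Fin 8) (Fin 8) ℤ := Matrix.of Cm

theorem Cm_symm : ∀ i k : Fin 8, Cm k i = Cm i k := by decide

theorem Cmat_symm : Cmat.transpose = Cmat := by
  ext i k
  exact Cm_symm i k

theorem Cm_diag : ∀ i : Fin 8, Cm i i = 2 := by decide

/-- the invariant bilinear form -/
noncomputable def B : V →ₗ[ℤ] V →ₗ[ℤ] ℤ := Matrix.toLinearMap₂' ℤ Cmat

theorem B_apply (u v : V) : B u v = u ⬝ᵥ Cmat.mulVec v := Matrix.toLinearMap₂'_apply' _ _ _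

theorem B_comm (u v : V) : B u v = B v u := by
  rw [B_apply, B_apply, Matrix.dotProduct_mulVec, dotProduct_comm]
  congr 1
  conv_lhs => rw [← Cmat_symm]
  rw [Matrix.vecMul_transpose]

/-- the `i`-th fundamental root as a vector -/
def e (i : Fin 8) : V := Pi.single i 1

theorem B_e_left (i : Fin 8) (v : V) : B (e i) v = ∑ k, Cm i k * v k := by
  rw [B_apply, e]
  simp [Matrix.mulVec, dotProduct, Pi.single_apply, Cmat]

theorem B_e_e (i : Fin 8) : B (e i) (e i) = 2 := by
  rw [B_e_left]
  simp [e, Pi.single_apply, Cm_diag]

/-- the reflection in the `i`-th fundamental root -/
noncomputable def reflL (i : Fin 8) : V →ₗ[ℤ] V := LinearMap.id - (B (e i)).smulRight (e i)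

theorem reflL_apply (i : Fin 8) (v : V) : reflL i v = v - B (e i) v • e i := rfl

theorem B_reflL (i : Fin 8) (u v : V) : B (reflL i u) (reflL i v) = B u v := by
  rw [reflL_apply, reflL_apply]
  simp only [map_sub, LinearMap.sub_apply, map_smul, LinearMap.smul_apply, smul_eq_mul, B_e_e]
  rw [B_comm u (e i)]
  ring

theorem reflL_reflL (i : Fin 8) (v : V) : reflL i (reflL i v) = v := by
  rw [reflL_apply, reflL_apply]
  simp only [map_sub, map_smul, smul_eq_mul, B_e_e]
  module

/-- the reflection with number `i` (the identity for `i ≥ 8`) -/
noncomputable def reflN (i : ℕ) : V →ₗ[ℤ] V := if h : i < 8 then reflL ⟨i, h⟩ else LinearMap.id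

/-- the linear map of a word -/
noncomputable def Lw : List ℕ → (V →ₗ[ℤ] V)
  | [] => LinearMap.id
  | i :: w => (reflN i).comp (Lw w)

theorem Lw_nil (v : V) : Lw [] v = v := rfl

theorem Lw_cons (i : ℕ) (w : List ℕ) (v : V) : Lw (i :: w) v = reflN i (Lw w v) := rfl

theorem Lw_append (w w' : List ℕ) (v : V) : Lw (w ++ w') v = Lw w (Lw w' v) := by
  induction w with
  | nil => rfl
  | cons i w ih => rw [List.cons_append, Lw_cons, Lw_cons, ih]

theorem B_reflN (i : ℕ) (u v : V) : B (reflN i u) (reflN i v) = B u v := by
  unfold reflN
  split_ifs with h
  · exact B_reflL _ u v
  · rfl

theorem reflN_reflN (i : ℕ) (v : V) : reflN i (reflN i v) = v := by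
  unfold reflN
  split_ifs with h
  · exact reflL_reflL _ v
  · rfl

/-- the form is invariant -/
theorem B_Lw (w : List ℕ) (u v : V) : B (Lw w u) (Lw w v) = B u v := by
  induction w with
  | nil => rfl
  | cons i w ih => rw [Lw_cons, Lw_cons, B_reflN, ih]

theorem Lw_reverse (w : List ℕ) (v : V) : Lw w.reverse (Lw w v) = v := by
  induction w generalizing v with
  | nil => rfl
  | cons i w ih => rw [List.reverse_cons, Lw_append, Lw_cons, Lw_cons, Lw_nil, reflN_reflN, ih]

theorem Lw_reverse' (w : List ℕ) (v : V) : Lw w (Lw w.reverse v) = v := by
  have := Lw_reverse w.reverse v
  rwa [List.reverse_reverse] at this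

/-- the generator certificate: the table of the `i`-th reflection is the reflection of the coefficient vectors -/
theorem gen_cert : ∀ i : Fin 8, ∀ x < 240, tact reflTabsE8 8 240 i.val x < 240 ∧
    ∀ k : Fin 8, cf (tact reflTabsE8 8 240 i.val x) k =
      cf x k - (if k = i then (Cm i 0 * cf x 0 + Cm i 1 * cf x 1 + Cm i 2 * cf x 2 + Cm i 3 * cf x 3 +
        Cm i 4 * cf x 4 + Cm i 5 * cf x 5 + Cm i 6 * cf x 6 + Cm i 7 * cf x 7) else 0) := by
  decide +kernel

theorem cf_tact (i : ℕ) (hi : i < 8) (x : ℕ) (hx : x < 240) :
    tact reflTabsE8 8 240 i x < 240 ∧ cf (tact reflTabsE8 8 240 i x) = reflN i (cf x) := by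
  obtain ⟨h1, h2⟩ := gen_cert ⟨i, hi⟩ x hx
  refine ⟨h1, ?_⟩
  funext k
  rw [h2 k, reflN, dif_pos hi, reflL_apply, B_e_left, Fin.sum_univ_eight]
  simp only [Pi.sub_apply, Pi.smul_apply, smul_eq_mul, e, Pi.single_apply]
  split_ifs <;> simp

theorem act_cons (i : ℕ) (w : List ℕ) (x : ℕ) : aW (i :: w) x = tact reflTabsE8 8 240 i (aW w x) := rfl

/-- the action on the indices is the linear action on the coefficient vectors -/
theorem cf_aW (w : List ℕ) (hw : ∀ i ∈ w, i < 8) (x : ℕ) (hx : x < 240) :
    aW w x < 240 ∧ cf (aW w x) = Lw w (cf x) := by
  induction w with
  | nil => exact ⟨hx, rfl⟩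
  | cons i w ih =>
    obtain ⟨h1, h2⟩ := ih (fun j hj => hw j (List.mem_cons_of_mem _ hj))
    obtain ⟨h3, h4⟩ := cf_tact i (hw i (List.mem_cons_self ..)) (aW w x) h1
    rw [act_cons]
    exact ⟨h3, by rw [h4, h2, Lw_cons]⟩

theorem act_lt (w : List ℕ) (hw : ∀ i ∈ w, i < 8) (x : ℕ) (hx : x < 240) : aW w x < 240 := (cf_aW w hw x hx).1

theorem act_append (w w' : List ℕ) (x : ℕ) : aW (w ++ w') x = aW w (aW w' x) := actW_append _ _ _ _ _ _

/-- the coefficient vectors determine the roots -/
def codeV (v : V) : ℤ :=
  ((((((v 0 * 16 + v 1) * 16 + v 2) * 16 + v 3) * 16 + v 4) * 16 + v 5) * 16 + v 6) * 16 + v 7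

theorem codeV_step : ∀ x < 239, codeV (cf x) < codeV (cf (x + 1)) := by decide +kernel

theorem codeV_lt : ∀ y x : ℕ, x < y → y < 240 → codeV (cf x) < codeV (cf y) := by
  intro y
  induction y with
  | zero => intro x hx; omega
  | succ y ih =>
    intro x hx hy
    have h1 := codeV_step y (by omega)
    rcases Nat.lt_succ_iff_lt_or_eq.mp hx with h | rfl
    · exact lt_trans (ih x h (by omega)) h1
    · exact h1

theorem cf_inj : ∀ x < 240, ∀ y < 240, cf x = cf y → x = y := by
  intro x hx y hy h
  rcases lt_trichotomy x y with h1 | h1 | h1
  · have := codeV_lt y x h1 hy
    rw [h] at this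
    exact absurd this (lt_irrefl _)
  · exact h1
  · have := codeV_lt x y h1 hx
    rw [h] at this
    exact absurd this (lt_irrefl _)

theorem cf_neg : ∀ x < 240, cf (239 - x) = - cf x := by decide +kernel

theorem cf_simple : ∀ i : Fin 8, chevE8.simple i.val < 240 ∧ 120 ≤ chevE8.simple i.val ∧ cf (chevE8.simple i.val) = e i := by
  decide +kernel

/-- the Cartan integers of all roots from the coefficient vectors -/
theorem cartan_eq : ∀ i : Fin 8, ∀ x < 240, chevE8.cartan i.val x =
    Cm i 0 * cf x 0 + Cm i 1 * cf x 1 + Cm i 2 * cf x 2 + Cm i 3 * cf x 3 +
      Cm i 4 * cf x 4 + Cm i 5 * cf x 5 + Cm i 6 * cf x 6 + Cm i 7 * cf x 7 := by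
  decide +kernel

theorem cartan_eq_B (i : Fin 8) (x : ℕ) (hx : x < 240) : chevE8.cartan i.val x = B (e i) (cf x) := by
  rw [cartan_eq i x hx, B_e_left, Fin.sum_univ_eight]

/-- positive roots have non-negative coefficients, negative roots have non-positive coefficients -/
theorem cf_sign : ∀ x < 240, (120 ≤ x → ∀ k, 0 ≤ cf x k) ∧ (x < 120 → ∀ k, cf x k ≤ 0) ∧ cf x ≠ 0 := by
  decide +kernel

end Cfsg.Agent.Helper18.E8Odd
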