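import Cfsg.Agent.Helper18.E8Odd.PiecesI

/-!
Helper18 (S4281), PART I assembled: every involution of `E₈(F)`, `|F|` odd, is conjugate to an element of `H`.
-/

set_option autoImplicit false
set_option maxRecDepth 100000

namespace Cfsg.Agent.Helper18.E8Odd

open Cfsg Cfsg.Lie Cfsg.Agent.Helper18 Cfsg.Agent.Helper36.E8Odd Cfsg.Agent.Helper18.E8OddSkel

/-- the combinatorial core: a non-trivial involutive word is conjugate to a word `s` with a negated fundamental root `α_i`
and a neighbour `α_j` which is negated too (A) or mapped to `α_i + α_j` (B) -/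
theorem invol_word_cases (w : List ℕ) (hw : ∀ i ∈ w, i < 8) (hinv : ∀ x < 240, aW w (aW w x) = x)
    (hnt : ¬ ∀ x < 240, aW w x = x) :
    ∃ v : List ℕ, (∀ i ∈ v, i < 8) ∧ ∃ i j, Adj i j ∧ aW (v ++ w ++ v.reverse) (sr i) = 239 - sr i ∧
      ((aW (v ++ w ++ v.reverse) (sr j) = 239 - sr j ∧ negCount (i :: (v ++ w ++ v.reverse)) < negCount w ∧
          negCount (j :: (v ++ w ++ v.reverse)) < negCount w) ∨
        (aW (v ++ w ++ v.reverse) (sr j) = aW [i] (sr j) ∧ negCount (i :: (v ++ w ++ v.reverse)) < negCount w)) := by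
  obtain ⟨v, hv, hterm⟩ := exists_terminal w hw hinv
  refine ⟨v, hv, ?_⟩
  have hvr : ∀ i ∈ v.reverse, i < 8 := fun i hi => hv i (List.mem_reverse.mp hi)
  have hs : ∀ i ∈ v ++ w ++ v.reverse, i < 8 := by
    intro i hi
    rcases List.mem_append.mp hi with hi | hi
    · rcases List.mem_append.mp hi with hi | hi
      · exact hv i hi
      · exact hw i hi
    · exact hvr i hi
  -- `v.reverse` inverts `v`
  have hrv : ∀ x < 240, aW v.reverse (aW v x) = x := by
    intro x hx
    apply cf_inj _ (aW_lt _ hvr _ (aW_lt _ hv _ hx)) _ hx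
    rw [(cf_aW _ hvr _ (aW_lt _ hv _ hx)).2, (cf_aW _ hv _ hx).2, Lw_reverse]
  have hvr' : ∀ x < 240, aW v (aW v.reverse x) = x := by
    intro x hx
    apply cf_inj _ (aW_lt _ hv _ (aW_lt _ hvr _ hx)) _ hx
    rw [(cf_aW _ hv _ (aW_lt _ hvr _ hx)).2, (cf_aW _ hvr _ hx).2, Lw_reverse']
  have hsinv : ∀ x < 240, aW (v ++ w ++ v.reverse) (aW (v ++ w ++ v.reverse) x) = x := by
    intro x hx
    have h1 : aW v.reverse x < 240 := aW_lt _ hvr _ hx
    have h2 : aW w (aW v.reverse x) < 240 := aW_lt _ hw _ h1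
    rw [aW_append, aW_append, aW_append, aW_append, hrv _ h2, hinv _ h1, hvr' _ hx]
  have hsnt : ¬ ∀ x < 240, aW (v ++ w ++ v.reverse) x = x := by
    intro h
    apply hnt
    intro x hx
    have h1 := h (aW v x) (aW_lt _ hv _ hx)
    rw [aW_append, aW_append, hrv _ hx] at h1
    have h2 := congrArg (aW v.reverse) h1
    rwa [hrv _ (aW_lt _ hw _ hx), hrv _ hx] at h2
  have hcount := negCount_conj w v hw hv
  by_cases hA : ∃ i j, Adj i j ∧ aW (v ++ w ++ v.reverse) (sr i) = 239 - sr i ∧ aW (v ++ w ++ v.reverse) (sr j) = 239 - sr j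
  · obtain ⟨i, j, hadj, h1, h2⟩ := hA
    refine ⟨i, j, hadj, h1, Or.inl ⟨h2, ?_, ?_⟩⟩
    · rw [← hcount]
      exact negCount_cons_lt _ hs hsinv i hadj.1 h1
    · rw [← hcount]
      exact negCount_cons_lt _ hs hsinv j hadj.2.1 h2
  · have hind : ∀ i j, Adj i j → aW (v ++ w ++ v.reverse) (sr i) = 239 - sr i → aW (v ++ w ++ v.reverse) (sr j) ≠ 239 - sr j :=
      fun i j hadj h1 h2 => hA ⟨i, j, hadj, h1, h2⟩
    obtain ⟨i, j, hadj, h1, h2⟩ := indep_case _ hs hsinv hsnt hterm hind
    refine ⟨i, j, hadj, h1, Or.inr ⟨h2, ?_⟩⟩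
    rw [← hcount]
    exact negCount_cons_lt _ hs hsinv i hadj.1 h1

section
variable {F : Type*} [Field F]

/-- the involutions of `N` are conjugate into `H` -/
theorem monomial_invol_to_diag [Fintype F] (hF : Odd (Fintype.card F)) :
    ∀ (n : ℕ) (w : List ℕ), (∀ i ∈ w, i < 8) → ∀ k ∈ chevE8.diagonalSubgroup F, negCount w = n →
      (k * nW w) * (k * nW w) = 1 → ∃ h ∈ chevE8.diagonalSubgroup F, ConjG (k * nW w) h := by
  intro n
  induction n using Nat.strong_induction_on with
  | _ n ih =>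
    intro w hw k hk hn hmm
    obtain ⟨c, rfl⟩ := (mem_diagonal_iff k).mp hk
    have hinv := invol_perm c w hw hmm
    by_cases hid : ∀ x < 240, aW w x = x
    · -- `w` acts trivially: `n_w ∈ H`
      obtain ⟨k₁, hk₁, e⟩ := nW_congr (F := F) w [] hw (by simp) (fun r hr => by
        rw [← (aW_eq_rho w hw r hr).1, ← (aW_eq_rho [] (by simp) r hr).1, hid r hr]; rfl)
      refine ⟨tor c * nW w, ?_, ConjG.refl _⟩
      rw [e, nW_nil, mul_one]
      exact mul_mem (tor_mem c) hk₁
    · obtain ⟨v, hv, i, j, hadj, h1, hcase⟩ := invol_word_cases w hw hinv hid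
      have hs : ∀ i ∈ v ++ w ++ v.reverse, i < 8 := by
        intro i hi
        rcases List.mem_append.mp hi with hi | hi
        · rcases List.mem_append.mp hi with hi | hi
          · exact hv i hi
          · exact hw i hi
        · exact hv i (List.mem_reverse.mp hi)
      obtain ⟨k', hk', e⟩ := conj_to_std w v (v ++ w ++ v.reverse) hw hv hs (fun _ _ => rfl) (tor c) (tor_mem c)
      have hc1 : ConjG (tor c * nW w) (k' * nW (v ++ w ++ v.reverse)) :=
        ⟨nW v, monomial_le_group (nW_mem v hv), e⟩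
      have hmm1 := hc1.sq_eq_one hmm
      obtain ⟨c1, rfl⟩ := (mem_diagonal_iff k').mp hk'
      have hlet : ∀ ι < 8, ∀ i ∈ ι :: (v ++ w ++ v.reverse), i < 8 := by
        intro ι hι i hi
        rcases List.mem_cons.mp hi with rfl | hi
        · exact hι
        · exact hs i hi
      rcases hcase with ⟨h2, hlt1, hlt2⟩ | ⟨h2, hlt1⟩
      · -- two adjacent negated fundamental roots
        have h3 := neg_sum _ hs i j hadj h1 h2
        have hcomm := comm_of_neg _ hs i hadj.1 h1
        obtain ⟨c2, hconj, hsq⟩ := adj_square hF _ hs i j hadj h1 h2 h3 hcomm c1 hmm1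
        have hmm2 := hconj.sq_eq_one hmm1
        rcases hsq with hsq | hsq
        · obtain ⟨k'', hk'', h4, h5⟩ := split_step hF i hadj.1 _ hs (tor c2) (tor_mem c2) hmm2 hsq
          obtain ⟨h, hh, hc3⟩ := ih (negCount (i :: (v ++ w ++ v.reverse))) (by rw [← hn]; exact hlt1)
            _ (hlet i hadj.1) k'' hk'' rfl h4
          exact ⟨h, hh, ((hc1.trans hconj).trans h5).trans hc3⟩
        · obtain ⟨k'', hk'', h4, h5⟩ := split_step hF j hadj.2.1 _ hs (tor c2) (tor_mem c2) hmm2 hsq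
          obtain ⟨h, hh, hc3⟩ := ih (negCount (j :: (v ++ w ++ v.reverse))) (by rw [← hn]; exact hlt2)
            _ (hlet j hadj.2.1) k'' hk'' rfl h4
          exact ⟨h, hh, ((hc1.trans hconj).trans h5).trans hc3⟩
      · -- an isolated negated fundamental root
        have hsq := refl_square _ hs i j hadj h1 h2 c1 hmm1
        obtain ⟨k'', hk'', h4, h5⟩ := split_step hF i hadj.1 _ hs (tor c1) (tor_mem c1) hmm1 hsq
        obtain ⟨h, hh, hc3⟩ := ih (negCount (i :: (v ++ w ++ v.reverse))) (by rw [← hn]; exact hlt1)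
          _ (hlet i hadj.1) k'' hk'' rfl h4
        exact ⟨h, hh, (hc1.trans h5).trans hc3⟩

/-- **PART I**: every involution of `E₈(F)`, `|F|` odd, is conjugate to an element of `H` -/
theorem invol_to_diag [Fintype F] (hF : Odd (Fintype.card F)) (t : GL chevE8.Idx F) (ht : t ∈ chevE8.group F)
    (h2 : t * t = 1) : ∃ h ∈ chevE8.diagonalSubgroup F, ConjG t h := by
  obtain ⟨m, hm, hmm, hc⟩ := invol_to_N hF t ht h2
  obtain ⟨w, hw, k, hk, rfl⟩ := monomial_decomp m hm
  obtain ⟨h, hh, hc2⟩ := monomial_invol_to_diag hF (negCount w) w hw k hk rfl hmm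
  exact ⟨h, hh, hc.trans hc2⟩

/-- PART I in the form used by the final assembly -/
theorem invol_to_diag' [Fintype F] (hF : Odd (Fintype.card F)) (u : GL chevE8.Idx F) (hu : u ∈ chevE8.group F)
    (h2 : u * u = 1) : ∃ k ∈ chevE8.diagonalSubgroup F, k * k = 1 ∧ ConjG u k := by
  obtain ⟨k, hk, hc⟩ := invol_to_diag hF u hu h2
  exact ⟨k, hk, hc.sq_eq_one h2, hc⟩

end

end Cfsg.Agent.Helper18.E8Odd
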