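import Cfsg.Agent.Helper18.E8Odd.Defs
import Cfsg.Agent.Helper69.E8Inv_NCS
import Cfsg.Agent.Helper10.E8Inv_CJ

/-!
Helper18 (S4281, PART I, piece (NCJ)): `negCount` is a class function.
-/

set_option autoImplicit false
set_option maxRecDepth 100000

namespace Cfsg.Agent.Helper18.E8Odd

open Cfsg Cfsg.Lie Cfsg.Agent.Helper18 Cfsg.Agent.Helper36.E8Odd

/-- the action of a word commutes with `x ↦ 239 - x` -/
theorem aW_neg (v : List ℕ) (hv : ∀ i ∈ v, i < 8) (x : ℕ) (hx : x < 240) : aW v (239 - x) = 239 - aW v x := by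
  have hx' : 239 - x < 240 := by omega
  obtain ⟨h1, h2⟩ := cf_aW v hv x hx
  obtain ⟨h3, h4⟩ := cf_aW v hv (239 - x) hx'
  apply cf_inj _ h3 _ (by omega)
  rw [h4, cf_neg x hx, map_neg, cf_neg _ h1, h2]

theorem negCount_conj (w v : List ℕ) (hw : ∀ i ∈ w, i < 8) (hv : ∀ i ∈ v, i < 8) :
    negCount (v ++ w ++ v.reverse) = negCount w := by
  have hvr : ∀ i ∈ v.reverse, i < 8 := fun i hi => hv i (List.mem_reverse.mp hi)
  have hrv : ∀ x < 240, aW v.reverse (aW v x) = x := by
    intro x hx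
    have := Cfsg.Agent.Helper10.E8Inv.CJ_reverse_cancel v.reverse hvr x hx
    rwa [List.reverse_reverse] at this
  have hvr' : ∀ x < 240, aW v (aW v.reverse x) = x :=
    fun x hx => Cfsg.Agent.Helper10.E8Inv.CJ_reverse_cancel v hv x hx
  rw [Cfsg.Agent.Helper69.E8Inv.negCount_eq_card, Cfsg.Agent.Helper69.E8Inv.negCount_eq_card]
  symm
  apply Finset.card_nbij' (fun x => aW v x) (fun y => aW v.reverse y)
  · intro x hx
    rw [Finset.mem_coe, Finset.mem_filter, Finset.mem_range] at hx ⊢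
    obtain ⟨hx1, hx2⟩ := hx
    refine ⟨aW_lt v hv x hx1, ?_⟩
    rw [aW_append, aW_append, hrv x hx1, hx2, aW_neg v hv x hx1]
  · intro y hy
    rw [Finset.mem_coe, Finset.mem_filter, Finset.mem_range] at hy ⊢
    obtain ⟨hy1, hy2⟩ := hy
    have h1 : aW v.reverse y < 240 := aW_lt _ hvr y hy1
    refine ⟨h1, ?_⟩
    rw [aW_append, aW_append] at hy2
    have h2 := congrArg (aW v.reverse) hy2
    rw [hrv _ (aW_lt w hw _ h1), aW_neg _ hvr y hy1] at h2
    exact h2
  · intro x hx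
    rw [Finset.mem_coe, Finset.mem_filter, Finset.mem_range] at hx
    exact hrv x hx.1
  · intro y hy
    rw [Finset.mem_coe, Finset.mem_filter, Finset.mem_range] at hy
    exact hvr' y hy.1

end Cfsg.Agent.Helper18.E8Odd
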