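import Cfsg.Agent.Helper18.E8Odd.Lin
import Cfsg.Agent.Helper18.E8Odd.DataD8
import Cfsg.Agent.Helper18.E8Odd.DataE7A1
import Cfsg.Agent.Helper29.E8Inv_BASE
import Cfsg.Agent.Helper29.E8Inv_STEP
import Cfsg.Agent.Helper53.E8Inv_SUM
import Cfsg.Agent.Helper53.E8Inv_COVER

/-!
Helper18 (S4281), PART III(b) assembled: for a certified reflection subgroup `D : RefSub` of `W(E₈)` (the instances are
`D8.refSub` and `E7A1.refSub`), the index set `D.cox.Group` and the words `D.wd g` form a system of representatives of the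
stabilizer of the subsystem `Ψ` in `W(E₈)`, and `∑_g q^{l_Ψ(g)}` is the Poincaré polynomial.
Pieces by helper29 (BASE, STEP) and helper53 (SUM, COVER), farm #14656.
-/

set_option autoImplicit false
set_option maxRecDepth 100000

namespace Cfsg.Agent.Helper18.E8Odd

open Cfsg Cfsg.Lie Cfsg.Agent.Helper18 Cfsg.Agent.Helper19.Cox Cfsg.Agent.Helper19.Poinc

namespace RefSub

variable (D : RefSub)

/-- (a) the letters of the representatives -/
theorem wd_lt (g : D.cox.Group) : ∀ l ∈ D.wd g, l < 8 := Cfsg.Agent.Helper29.E8Inv.wd_lt D g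

/-- (b) the representatives preserve `Ψ` -/
theorem psi_wd (g : D.cox.Group) (x : ℕ) (hx : x < 240) :
    D.psi.testBit (actW reflTabsE8 8 240 (D.wd g) x) = D.psi.testBit x :=
  Cfsg.Agent.Helper29.E8Inv.psi_wd D g x hx

/-- (c) distinct elements act differently -/
theorem wd_inj (g g' : D.cox.Group)
    (h : ∀ x < 240, actW reflTabsE8 8 240 (D.wd g) x = actW reflTabsE8 8 240 (D.wd g') x) : g = g' :=
  Cfsg.Agent.Helper29.E8Inv.wd_inj D g g' h

/-- (d) every word of `W(E₈)` which preserves `Ψ` acts like a representative -/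
theorem stab_cover (w : List ℕ) (hw : ∀ i ∈ w, i < 8)
    (h : ∀ x < 240, D.psi.testBit (actW reflTabsE8 8 240 w x) = D.psi.testBit x) :
    ∃ g : D.cox.Group, ∀ x < 240, actW reflTabsE8 8 240 (D.wd g) x = actW reflTabsE8 8 240 w x :=
  Cfsg.Agent.Helper53.E8Inv.stab_cover D w hw h

/-- (e) the Poincaré series of the stabilizer -/
theorem sum_ellW (q : ℕ) (hq : 1 ≤ q) :
    (∑ g : D.cox.Group, q ^ ellW D.psi (D.wd g)) * (q - 1) ^ 8 = (D.degs.map fun d => q ^ d - 1).prod := by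
  rw [← Cfsg.Agent.Helper53.E8Inv.sum_ell D q hq]
  congr 1
  apply Finset.sum_congr rfl
  intro g _
  rw [Cfsg.Agent.Helper29.E8Inv.ell_eq D g]

end RefSub

/-- the Poincaré series of `W(D₈)` -/
theorem D8.sum_ellW (q : ℕ) (hq : 1 ≤ q) :
    (∑ g : D8.refSub.cox.Group, q ^ ellW D8.refSub.psi (D8.refSub.wd g)) * (q - 1) ^ 8 =
      (q ^ 2 - 1) * (q ^ 4 - 1) * (q ^ 6 - 1) * (q ^ 8 - 1) * (q ^ 10 - 1) * (q ^ 12 - 1) * (q ^ 14 - 1) * (q ^ 8 - 1) := by
  rw [RefSub.sum_ellW D8.refSub q hq]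
  show ([2, 4, 6, 8, 10, 12, 14, 8].map fun d => q ^ d - 1).prod = _
  simp only [List.map_cons, List.map_nil, List.prod_cons, List.prod_nil, mul_one, mul_assoc]

/-- the Poincaré series of `W(E₇ × A₁)` -/
theorem E7A1.sum_ellW (q : ℕ) (hq : 1 ≤ q) :
    (∑ g : E7A1.refSub.cox.Group, q ^ ellW E7A1.refSub.psi (E7A1.refSub.wd g)) * (q - 1) ^ 8 =
      (q ^ 2 - 1) * (q ^ 6 - 1) * (q ^ 8 - 1) * (q ^ 10 - 1) * (q ^ 12 - 1) * (q ^ 14 - 1) * (q ^ 18 - 1) * (q ^ 2 - 1) := by
  rw [RefSub.sum_ellW E7A1.refSub q hq]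
  show ([2, 6, 8, 10, 12, 14, 18, 2].map fun d => q ^ d - 1).prod = _
  simp only [List.map_cons, List.map_nil, List.prod_cons, List.prod_nil, mul_one, mul_assoc]

/-- the two subsystems: `Ψ` consists of the roots whose coefficient on `α₁` (for `D₈`) resp. `α₈` (for `E₇ × A₁`) is even -/
theorem D8.psi_spec : ∀ x < 240, D8.refSub.psi.testBit x = decide (cf x 0 % 2 = 0) := by decide +kernel

theorem E7A1.psi_spec : ∀ x < 240, E7A1.refSub.psi.testBit x = decide (cf x 7 % 2 = 0) := by decide +kernel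

end Cfsg.Agent.Helper18.E8Odd
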