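import Cfsg.Agent.Helper18.E8Odd.NCJ
import Cfsg.Agent.Helper63.E8Inv_D1core
import Cfsg.Agent.Helper2.E8Inv_DESC
import Cfsg.Agent.Helper69.E8Inv_NCS
import Cfsg.Agent.Helper10.E8Inv_COMM
import Cfsg.Agent.Helper66.E8Inv_NS
import Cfsg.Agent.Helper14.E8Inv_IND
import Cfsg.Agent.Helper12.E8Inv_INV
import Cfsg.Agent.Helper10.E8Inv_CJ
import Cfsg.Agent.Helper60.E8Inv_FL
import Cfsg.Agent.Helper60.E8Inv_SP
import Cfsg.Agent.Helper12.E8Inv_BL
import Cfsg.Agent.Helper19.E8Inv_AL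

/-!
Helper18 (S4281), PART I: the pieces of the skeleton `tools/helper18_e8inv/SkelI.lean.txt`, proved by
helper63 (D1), helper2 (DESC), helper18 (NCJ), helper69 (NCS), helper10 (COMM, CJ), helper66 (NS), helper14 (IND), helper12 (INV, BL),
helper60 (FL, SP), helper19 (AL), restated under the skeleton's names.
-/

set_option autoImplicit false
set_option maxRecDepth 100000

namespace Cfsg.Agent.Helper18.E8OddSkel

open Cfsg Cfsg.Lie Cfsg.Agent.Helper18 Cfsg.Agent.Helper18.E8Odd Cfsg.Agent.Helper36.E8Odd Cfsg.Agent.Helper40.SL2Hom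

theorem triv_of_pos (w : List ℕ) (hw : ∀ i ∈ w, i < 8) (h : ∀ i < 8, 120 ≤ aW w (sr i)) : ∀ x < 240, aW w x = x :=
  fun x hx => Cfsg.Agent.Helper63.E8Inv.triv_of_pos_core w hw h x hx

theorem exists_terminal (w : List ℕ) (hw : ∀ i ∈ w, i < 8) (hinv : ∀ x < 240, aW w (aW w x) = x) :
    ∃ v : List ℕ, (∀ i ∈ v, i < 8) ∧
      ∀ i < 8, aW (v ++ w ++ v.reverse) (sr i) < 120 → aW (v ++ w ++ v.reverse) (sr i) = 239 - sr i :=
  Cfsg.Agent.Helper2.E8Inv.exists_terminal w hw hinv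

theorem negCount_conj (w v : List ℕ) (hw : ∀ i ∈ w, i < 8) (hv : ∀ i ∈ v, i < 8) :
    negCount (v ++ w ++ v.reverse) = negCount w :=
  Cfsg.Agent.Helper18.E8Odd.negCount_conj w v hw hv

theorem negCount_cons_lt (s : List ℕ) (hs : ∀ i ∈ s, i < 8) (hinv : ∀ x < 240, aW s (aW s x) = x) (i : ℕ) (hi : i < 8)
    (h : aW s (sr i) = 239 - sr i) : negCount (i :: s) < negCount s :=
  Cfsg.Agent.Helper69.E8Inv.negCount_cons_lt s hs hinv i hi h

theorem comm_of_neg (s : List ℕ) (hs : ∀ i ∈ s, i < 8) (i : ℕ) (hi : i < 8) (h : aW s (sr i) = 239 - sr i) :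
    ∀ x < 240, aW (i :: (s ++ [i])) x = aW s x :=
  Cfsg.Agent.Helper10.E8Inv.comm_of_neg s hs i hi h

theorem neg_sum (s : List ℕ) (hs : ∀ i ∈ s, i < 8) (i j : ℕ) (hadj : Adj i j) (h1 : aW s (sr i) = 239 - sr i)
    (h2 : aW s (sr j) = 239 - sr j) : aW s (aW [i] (sr j)) = 239 - aW [i] (sr j) :=
  Cfsg.Agent.Helper66.E8Inv.neg_sum s hs i j hadj h1 h2

theorem indep_case (s : List ℕ) (hs : ∀ i ∈ s, i < 8) (hinv : ∀ x < 240, aW s (aW s x) = x)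
    (hnt : ¬ ∀ x < 240, aW s x = x)
    (hterm : ∀ i < 8, aW s (sr i) < 120 → aW s (sr i) = 239 - sr i)
    (hind : ∀ i j, Adj i j → aW s (sr i) = 239 - sr i → aW s (sr j) ≠ 239 - sr j) :
    ∃ i j, Adj i j ∧ aW s (sr i) = 239 - sr i ∧ aW s (sr j) = aW [i] (sr j) :=
  Cfsg.Agent.Helper14.E8Inv.indep_case s hs hinv hnt hterm hind

variable {F : Type*} [Field F]

theorem invol_perm (c : Fin chevE8.rank → Fˣ) (w : List ℕ) (hw : ∀ i ∈ w, i < 8)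
    (hmm : (tor c * nW w) * (tor c * nW w) = 1) : ∀ x < 240, aW w (aW w x) = x :=
  Cfsg.Agent.Helper12.E8Inv.invol_perm c w hw hmm

theorem conj_to_std (w v s : List ℕ) (hw : ∀ i ∈ w, i < 8) (hv : ∀ i ∈ v, i < 8) (hs : ∀ i ∈ s, i < 8)
    (h : ∀ x < 240, aW (v ++ w ++ v.reverse) x = aW s x) (k : GL chevE8.Idx F) (hk : k ∈ chevE8.diagonalSubgroup F) :
    ∃ k' ∈ chevE8.diagonalSubgroup F, nW v * (k * nW w) * (nW v)⁻¹ = k' * nW s :=
  Cfsg.Agent.Helper10.E8Inv.conj_to_std w v s hw hv hs h k hk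

theorem flip_reduce [Fintype F] (hF : Odd (Fintype.card F)) (r : ℕ) (hr : r < 240) (m : GL chevE8.Idx F)
    (hmm : m * m = 1) (c f : F) (hf : f ≠ 0) (hc : c * (f * f) = -1)
    (hx : ∀ t : F, m * X r t * m⁻¹ = X (239 - r) (c * t)) :
    ConjG m (m * hh r (-1)) :=
  Cfsg.Agent.Helper60.E8Inv.flip_reduce hF r hr m hmm c f hf hc hx

theorem split_step [Fintype F] (hF : Odd (Fintype.card F)) (ι : ℕ) (hι : ι < 8) (w : List ℕ) (hw : ∀ i ∈ w, i < 8)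
    (k : GL chevE8.Idx F) (hk : k ∈ chevE8.diagonalSubgroup F) (hmm : (k * nW w) * (k * nW w) = 1)
    (hsq : SqAt (k * nW w) (chevE8.simple ι)) :
    ∃ k' ∈ chevE8.diagonalSubgroup F, (k' * nW (ι :: w)) * (k' * nW (ι :: w)) = 1 ∧
      ConjG (k * nW w) (k' * nW (ι :: w)) :=
  Cfsg.Agent.Helper60.E8Inv.split_step hF ι hι w hw k hk hmm hsq

theorem refl_square (w : List ℕ) (hw : ∀ i ∈ w, i < 8) (i j : ℕ) (hadj : Adj i j)
    (h1 : aW w (sr i) = 239 - sr i) (h2 : aW w (sr j) = aW [i] (sr j))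
    (c : Fin chevE8.rank → Fˣ) (hmm : (tor c * nW w) * (tor c * nW w) = 1) : SqAt (tor c * nW w) (sr i) :=
  Cfsg.Agent.Helper12.E8Inv.refl_square w hw i j hadj h1 h2 c hmm

theorem adj_square [Fintype F] (hF : Odd (Fintype.card F)) (w : List ℕ) (hw : ∀ i ∈ w, i < 8) (i j : ℕ) (hadj : Adj i j)
    (h1 : aW w (sr i) = 239 - sr i) (h2 : aW w (sr j) = 239 - sr j)
    (h3 : aW w (aW [i] (sr j)) = 239 - aW [i] (sr j))
    (hcomm : ∀ x < 240, aW (i :: (w ++ [i])) x = aW w x)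
    (c : Fin chevE8.rank → Fˣ) (hmm : (tor c * nW w) * (tor c * nW w) = 1) :
    ∃ c' : Fin chevE8.rank → Fˣ, ConjG (tor c * nW w) (tor c' * nW w) ∧
      (SqAt (tor c' * nW w) (sr i) ∨ SqAt (tor c' * nW w) (sr j)) :=
  Cfsg.Agent.Helper19.E8Inv.adj_square hF w hw i j hadj h1 h2 h3 hcomm c hmm

end Cfsg.Agent.Helper18.E8OddSkel
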