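import Cfsg.Agent.Helper19.Poinc.Data
import Cfsg.Agent.Helper19.Poinc.WEngine
import Cfsg.Agent.Helper73.Poincare

/-!
Helper18 (S4281, PART III): reflection subgroups of `W(E₈)` with a certificate.

`RefSub` bundles: a Coxeter matrix `cox` on eight generators, the packed tables `T` of eight reflections of `W(E₈)` on the 240
root indices of `chevE8` which satisfy its relations, helper19's coset-table certificate `levels` along the chain of the
subgroups generated by the first `k` reflections (so that `|cox.Group|` is known and the action is faithful), the data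
`sub`, `alphas` for the weighted counting engine `Poinc.WEngine`, the bit mask `psi` of the root subsystem `Ψ`, words `gens` in
the fundamental reflections of `W(E₈)` for the eight reflections, words `orb` for `|W(E₈)| / |cox.Group|` elements of `W(E₈)` which
map `Ψ` to pairwise distinct subsystems, and the degrees `degs` with the Poincaré identity check.
-/

set_option autoImplicit false
set_option maxRecDepth 100000

namespace Cfsg.Agent.Helper18.E8Odd

open Cfsg Cfsg.Lie Cfsg.Agent.Helper18 Cfsg.Agent.Helper19.Cox Cfsg.Agent.Helper19.Poinc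

/-- the indicator list of the image of the subsystem with mask `psi` under the word `u` -/
def imgL (psi : ℕ) (u : List ℕ) : List Bool :=
  (List.range 240).map fun y => psi.testBit (actW reflTabsE8 8 240 u.reverse y)

/-- the length of a word with respect to the positive system `Ψ ∩ Φ⁺`: the number of positive roots of `Ψ` made negative -/
def ellW (psi : ℕ) (w : List ℕ) : ℕ :=
  ((List.range 240).filter fun r => decide (120 ≤ r) && psi.testBit r && decide (actW reflTabsE8 8 240 w r < 120)).length

structure RefSub where
  cox : CoxeterMatrix (Fin 8)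
  Mx : ℕ → ℕ → ℕ
  hMx : ∀ a b (ha : a < 8) (hb : b < 8), cox ⟨a, ha⟩ ⟨b, hb⟩ = Mx a b
  T : List ℕ
  hI : checkInvol T 8 240 = true
  hB : checkBraid Mx T 8 240 = true
  levels : List Level
  hlen : levels.length = 8
  hL : checkLevels Mx T 8 240 0 levels = true
  alphas : List ℕ
  sub : List ℕ
  hC : chainOK T 8 240 120 sub alphas 0 levels = true
  /-- bit mask of the roots of the subsystem `Ψ` -/
  psi : ℕ
  /-- words in the fundamental reflections of `W(E₈)` for the eight generating reflections -/
  gens : List (List ℕ)
  hgens : ∀ i < 8, (∀ l ∈ gens.getD i [], l < 8) ∧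
    ∀ x < 240, tact T 8 240 i x = actW reflTabsE8 8 240 (gens.getD i []) x
  hpsi : ∀ i < 8, ∀ x < 240, psi.testBit (tact T 8 240 i x) = psi.testBit x
  /-- `alphas` is the simple system of `Ψ ∩ Φ⁺` -/
  hsimple : ∀ i < 8, 120 ≤ alphas.getD i 0 ∧ alphas.getD i 0 < 240 ∧ psi.testBit (alphas.getD i 0) = true ∧
    tact T 8 240 i (alphas.getD i 0) = 239 - alphas.getD i 0 ∧
    ∀ r < 240, 120 ≤ r → psi.testBit r = true → r ≠ alphas.getD i 0 → 120 ≤ tact T 8 240 i r
  hnegT : ∀ i < 8, ∀ x < 240, tact T 8 240 i x < 240 ∧ tact T 8 240 i (239 - x) = 239 - tact T 8 240 i x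
  /-- words of `W(E₈)` mapping `Ψ` to pairwise distinct subsystems -/
  orb : List (List ℕ)
  horbL : ∀ u ∈ orb, ∀ l ∈ u, l < 8
  horb : (orb.map (imgL psi)).Nodup
  hcount : orb.length * (levels.map fun lv => lv.1.length).prod = 696729600
  degs : List ℕ
  hpoinc : Cfsg.Agent.Helper73.LPoly.check (levels.map fun lv => lv.1.map List.length) 8 degs = true

namespace RefSub

variable (D : RefSub)

/-- the permutation representation of the Coxeter group on the root indices -/
noncomputable def phi : D.cox.Group →* Equiv.Perm ℕ := Cfsg.Agent.Helper19.Cox.phi D.cox D.Mx D.hI D.hB D.hMx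

theorem card_eq : Nat.card D.cox.Group = (D.levels.map fun lv => lv.1.length).prod :=
  (main D.cox D.Mx D.hI D.hB D.hMx D.levels D.hlen D.hL).1

theorem phi_injective : Function.Injective D.phi :=
  (main D.cox D.Mx D.hI D.hB D.hMx D.levels D.hlen D.hL).2

theorem finite : Finite D.cox.Group := by
  apply Nat.finite_of_card_ne_zero
  rw [D.card_eq]
  intro h
  have := D.hcount
  rw [h, Nat.mul_zero] at this
  exact absurd this (by norm_num)

noncomputable instance : Fintype D.cox.Group := @Fintype.ofFinite _ D.finite

/-- the word in the fundamental reflections of `W(E₈)` of a word in the generators -/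
def expand (w : List ℕ) : List ℕ := w.flatMap fun i => D.gens.getD i []

theorem exists_word (g : D.cox.Group) : ∃ w : List ℕ, (∀ i ∈ w, i < 8) ∧ gp D.cox w = g := by
  obtain ⟨ω, rfl⟩ := D.cox.toCoxeterSystem.wordProd_surjective g
  refine ⟨ω.map Fin.val, ?_, ?_⟩
  · intro i hi
    obtain ⟨a, -, rfl⟩ := List.mem_map.mp hi
    exact a.2
  · induction ω with
    | nil => simp [CoxeterSystem.wordProd]
    | cons a ω ih =>
      rw [List.map_cons, gp_cons, ih, CoxeterSystem.wordProd_cons, sg_of_lt D.cox a.2]

/-- a word in the generators for an element -/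
noncomputable def wordOf (g : D.cox.Group) : List ℕ := (D.exists_word g).choose

theorem wordOf_lt (g : D.cox.Group) : ∀ i ∈ D.wordOf g, i < 8 := (D.exists_word g).choose_spec.1

theorem gp_wordOf (g : D.cox.Group) : gp D.cox (D.wordOf g) = g := (D.exists_word g).choose_spec.2

/-- a word in the fundamental reflections of `W(E₈)` for an element -/
noncomputable def wd (g : D.cox.Group) : List ℕ := D.expand (D.wordOf g)

/-- the length of an element with respect to `Ψ ∩ Φ⁺` -/
noncomputable def ell (g : D.cox.Group) : ℕ :=
  ((List.range 240).filter fun r => decide (120 ≤ r) && D.psi.testBit r && decide (D.phi g r < 120)).length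

end RefSub

end Cfsg.Agent.Helper18.E8Odd
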